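import Cfsg.Agent.H661.SC.Base
import Cfsg.Agent.H996.Eight.Interval
import Cfsg.Agent.H852.IMMathieu2
import Cfsg.Agent.H287.Blk.CoThree
import Cfsg.Agent.H654.FourRows
import Cfsg.Agent.H417.DegMTwentyThree
import Cfsg.Agent.H417.DegMTwelve
import Cfsg.Agent.H417.RecogMathieu
import Cfsg.Agent.S1555
import Cfsg.Agent.S1556
import Cfsg.Agent.S1557
import Cfsg.Agent.S1638
import Cfsg.Agent.Prune
set_option linter.all false
prune_inst 0x7f00000000000000000000000000000000000000000000000000000000000000000000000000000000000000000000000000000000000000000000000000000000000000000000000000000000000000003fffffffffffffffffffffffffffbeffbdfbfeffff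
open scoped Cfsg.Agent.FastGrp

-- part: H174/SC/Rank
section
/-!
# `IMC 2 G` from a permutation representation of odd degree and even rank (helper174)

If `G` acts transitively on `X`, `|X|` odd, with an even number of orbits on `X × X`, then some constituent of the
permutation character has even degree (compare `∑ m χ(1)` and `∑ m ^ 2` modulo 2).
-/

set_option autoImplicit false

open Cfsg
open scoped ComplexConjugate

namespace Cfsg.Agent.H174.SC

open Cfsg.Agent.Characters.Core Cfsg.Agent.Blocks Cfsg.Agent.H625.SylConst Cfsg.Agent.H661.SC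
open Cfsg.Agent.H464.PermIrr

universe u

variable {G : Type u} [Group G] [Finite G]

/-- A constituent of a permutation character has a vector fixed by a point stabilizer. -/
theorem exists_fix (X : Type*) [MulAction G X] [Finite X] [Fintype G] {χ : G → ℂ}
    (h : classInner (pc G X) χ ≠ 0) : ∃ x : X, _root_.Cfsg.Agent.H625.SylConst.Fix (MulAction.stabilizer G x) χ := by
  classical
  have := Fintype.ofFinite X
  by_contra hcon
  push Not at hcon
  apply h
  have h1 : ∀ x : X, ∑ z : MulAction.stabilizer G x, χ z = 0 := by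
    intro x
    have h2 := hcon x
    rw [fix_iff, ne_eq, not_not] at h2
    exact h2
  rw [classInner_def, mul_eq_zero]
  right
  have e : ∀ g : G, pc G X g * conj (χ g) = ∑ x : X, if g • x = x then conj (χ g) else 0 := by
    intro g
    rw [← Finset.sum_filter, Finset.sum_const, nsmul_eq_mul]
    (with_reducible congr 2)
    rw [← Fintype.card_subtype, ← Nat.card_eq_fintype_card]
    rfl
  rw [Finset.sum_congr rfl fun g _ => e g, Finset.sum_comm]
  refine Finset.sum_eq_zero fun x _ => ?_
  have h2 : ∑ g : G, (if g • x = x then conj (χ g) else 0) = conj (∑ z : MulAction.stabilizer G x, χ z) := by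
    rw [map_sum, ← Finset.sum_filter]
    symm
    refine Finset.sum_bij (fun z _ => (z : G)) (fun z _ => Finset.mem_filter.2 ⟨Finset.mem_univ _, z.2⟩)
      (fun a _ b _ hab => Subtype.ext hab) (fun g hg => ⟨⟨g, (Finset.mem_filter.1 hg).2⟩, Finset.mem_univ _, rfl⟩)
      (fun z _ => rfl)
  rw [h2, h1 x, map_zero]

/-- **Odd degree and even rank.** -/
theorem imc_two_of_rank (X : Type*) [MulAction G X] [Finite X] (ht : MulAction.IsPretransitive G X)
    (hX : ¬ 2 ∣ Nat.card X) {r : ℕ} (hr : Nat.card (MulAction.orbitRel.Quotient G (X × X)) = r) (hr2 : 2 ∣ r) :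
    IMC 2 G := by
  classical
  have : Fact (Nat.Prime 2) := ⟨Nat.prime_two⟩
  have : Fintype G := Fintype.ofFinite G
  have : Finite (IrrCharacter G) := finite_irr
  have : Fintype (IrrCharacter G) := Fintype.ofFinite _
  obtain ⟨m, hm⟩ := isCharacter_iff.1 (isCharacter_pc G X)
  have h1 : Nat.card X = ∑ χ : IrrCharacter G, m χ * charDegree (χ : G → ℂ) := by
    have h2 := congrFun hm 1
    rw [pc_one, Finset.sum_apply] at h2
    have h3 : (Nat.card X : ℂ) = ((∑ χ : IrrCharacter G, m χ * charDegree (χ : G → ℂ) : ℕ) : ℂ) := by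
      rw [h2, Nat.cast_sum]
      refine Finset.sum_congr rfl fun χ _ => ?_
      rw [Pi.smul_apply, nsmul_eq_mul, Nat.cast_mul, Blocks.Basic.irr_one_eq_charDegree χ.2]
    exact_mod_cast h3
  have h2 : r = ∑ χ : IrrCharacter G, m χ * m χ := by
    have h3 := classInner_pc (G := G) X X
    rw [hr] at h3
    have h4 : classInner (pc G X) (pc G X) = ∑ χ : IrrCharacter G, (m χ : ℂ) * (m χ : ℂ) := by
      have e : pc G X = ∑ χ : IrrCharacter G, (m χ : ℂ) • (χ : G → ℂ) := by
        rw [hm]
        exact Finset.sum_congr rfl fun χ _ => (Nat.cast_smul_eq_nsmul ℂ _ _).symm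
      rw [e, classInner_sum_smul_sum_smul]
      exact Finset.sum_congr rfl fun χ _ => by rw [Complex.conj_natCast]
    rw [h4] at h3
    have h5 : ((∑ χ : IrrCharacter G, m χ * m χ : ℕ) : ℂ) = (r : ℂ) := by
      rw [← h3]
      push_cast
      rfl
    exact (by exact_mod_cast h5 : ∑ χ : IrrCharacter G, m χ * m χ = r).symm
  obtain ⟨χ, hχ0, hχd⟩ : ∃ χ : IrrCharacter G, m χ ≠ 0 ∧ 2 ∣ charDegree (χ : G → ℂ) := by
    by_contra hcon
    push Not at hcon
    apply hX
    have key : Nat.card X ≡ r [MOD 2] := by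
      rw [h1, h2]
      refine Nat.ModEq.sum fun χ _ => ?_
      by_cases h0 : m χ = 0
      · rw [h0, zero_mul, zero_mul]
      · have h3 := hcon χ h0
        have h4 : charDegree (χ : G → ℂ) ≡ 1 [MOD 2] := by unfold Nat.ModEq; omega
        have h5 : m χ * m χ ≡ m χ * 1 [MOD 2] := by
          have : m χ * m χ % 2 = m χ % 2 := by
            rcases Nat.mod_two_eq_zero_or_one (m χ) with h | h <;> simp [Nat.mul_mod, h]
          unfold Nat.ModEq
          rw [mul_one]
          exact this
        exact (Nat.ModEq.mul_left _ h4).trans h5.symm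
    unfold Nat.ModEq at key
    omega
  have h3 : classInner (pc G X) (χ : G → ℂ) ≠ 0 := by
    rw [hm, classInner_sum_nsmul_irr]
    exact_mod_cast hχ0
  obtain ⟨x, hx⟩ := exists_fix X h3
  refine IMC.of_le (MulAction.stabilizer G x) ?_ χ hχd hx
  rw [MulAction.index_stabilizer_of_transitive]
  exact hX

end Cfsg.Agent.H174.SC
end

-- part: H174/SC/Mathieu
section
/-!
# `IMC` for the Mathieu groups (S4526, helper174)

* `p ^ 3 ∤ |S|` : `imc_of_IM`;
* `p = 2` : M11, M12 `imc_of_loc`; M22 : rank 4 on the 231 pairs of points; M23 : degree 896; M24 : rank 4 on the 759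
  octads;
* `p = 3` : M12 degree 54, M24 degree 252.
-/

set_option autoImplicit false

open Cfsg
open scoped Pointwise

namespace Cfsg.Agent.H174.SC

open Cfsg.Agent.Characters.Core Cfsg.Agent.H625.SylConst Cfsg.Agent.H661.SC
open Cfsg.Agent.H464.PermIrr Cfsg.Agent.H852.IMMathieu

universe u

/-! ### M24 on the octads -/

theorem hOct (g : M24) (o : Finset GolayPt) (ho : o ∈ octads) : g • o ∈ octads := smul_oct g.2 ho

/-- the invariant: size of the intersection -/
def invO (n : ℕ) : Fin 4 := if n = 8 then 0 else if n = 4 then 1 else if n = 2 then 2 else 3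

theorem inter_vals {O O' : Finset GolayPt} (hO : O ∈ octads) (hO' : O' ∈ octads) :
    (O ∩ O').card = 8 ∨ (O ∩ O').card = 4 ∨ (O ∩ O').card = 2 ∨ (O ∩ O').card = 0 := by
  by_cases hne : O = O'
  · subst hne
    rw [Finset.inter_self, card_oct hO]
    exact .inl rfl
  have hα : Fintype.card Cfsg.GolayPt = 24 := by simp
  rcases Cfsg.Agent.S0352.result hα Cfsg.Agent.S0363.result hO hO' hne with h | h | h <;> omega

theorem exists_disjoint : ∃ o o' : Finset GolayPt, o ∈ octads ∧ o' ∈ octads ∧ Disjoint o o' := by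
  have h := Cfsg.Agent.S1557.result.2
  obtain ⟨T, hT⟩ : trios.Nonempty := by
    rw [Set.nonempty_iff_ne_empty]
    intro h0
    rw [h0, Set.ncard_empty] at h
    omega
  obtain ⟨h1, h2, h3⟩ := hT
  obtain ⟨a, ha, b, hb, hab⟩ := Finset.one_lt_card.1 (by omega : 1 < T.card)
  exact ⟨a, b, h2 a ha, h2 b hb, h3 a ha b hb hab⟩

theorem rank_octads : letI := actSub octads hOct;
    Nat.card (MulAction.orbitRel.Quotient M24 (octads × octads)) = 4 := by
  let _ := actSub octads hOct
  have hsm : ∀ (g : M24) (x : octads), ((g • x : octads) : Finset GolayPt) = g.1 • x.1 := fun g x => rfl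
  have htr : ∀ o o' : Finset GolayPt, o ∈ octads → o' ∈ octads → ∃ g : M24, g • o = o' :=
    fun o o' h h' => Cfsg.Agent.S0367.result o o' h h'
  refine card_orbits M24 (fun z => invO (z.1.1 ∩ z.2.1).card) ?_ ?_ ?_
  · rintro g ⟨x, y⟩
    show invO ((g • x : octads).1 ∩ (g • y : octads).1).card = _
    rw [hsm, hsm, ← Finset.smul_finset_inter, Finset.card_smul_finset]
  · obtain ⟨o, o', ho, ho', hd⟩ := exists_disjoint
    have key : ∀ n : ℕ, n = 2 ∨ n = 4 → ∃ x y : octads, (x.1 ∩ y.1).card = n := by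
      intro n hn
      obtain ⟨s, hs, hsc⟩ : ∃ s : Finset GolayPt, s ⊆ o ∧ s.card = n :=
        Finset.exists_subset_card_eq (by rw [card_oct ho]; omega)
      obtain ⟨h2, h4⟩ := Cfsg.Agent.S1555.result o ho s hs
      obtain ⟨x, hx, hx'⟩ : {o' : Finset Cfsg.GolayPt | o' ∈ Cfsg.octads ∧ o ∩ o' = s}.Nonempty := by
        rw [Set.nonempty_iff_ne_empty]
        intro h0
        rcases hn with rfl | rfl
        · have h := h2 hsc
          rw [h0, Set.ncard_empty] at h
          omega
        · have h := h4 hsc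
          rw [h0, Set.ncard_empty] at h
          omega
      exact ⟨⟨o, ho⟩, ⟨x, hx⟩, by rw [← hsc, ← hx']⟩
    intro i
    fin_cases i
    · refine ⟨(⟨o, ho⟩, ⟨o, ho⟩), ?_⟩
      show invO (o ∩ o).card = _
      rw [Finset.inter_self, card_oct ho]
      rfl
    · obtain ⟨x, y, h⟩ := key 4 (.inr rfl)
      refine ⟨(x, y), ?_⟩
      show invO (x.1 ∩ y.1).card = _
      rw [h]
      rfl
    · obtain ⟨x, y, h⟩ := key 2 (.inl rfl)
      refine ⟨(x, y), ?_⟩
      show invO (x.1 ∩ y.1).card = _
      rw [h]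
      rfl
    · refine ⟨(⟨o, ho⟩, ⟨o', ho'⟩), ?_⟩
      show invO (o ∩ o').card = _
      rw [Finset.disjoint_iff_inter_eq_empty.1 hd, Finset.card_empty]
      rfl
  · rintro ⟨x, y⟩ ⟨x', y'⟩ h
    have h' : invO (x.1 ∩ y.1).card = invO (x'.1 ∩ y'.1).card := h
    have hc : (x.1 ∩ y.1).card = (x'.1 ∩ y'.1).card := by
      rcases inter_vals x.2 y.2 with h1 | h1 | h1 | h1 <;> rcases inter_vals x'.2 y'.2 with h2 | h2 | h2 | h2 <;>
        rw [h1, h2] at h' ⊢ <;> revert h' <;> decide
    obtain ⟨g, hg⟩ := htr x.1 x'.1 x.2 x'.2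
    have hy : g.1 • y.1 ∈ octads := smul_oct g.2 y.2
    have hg' : g.1 • x.1 = x'.1 := hg
    obtain ⟨k, hk, hk1, hk2⟩ := Cfsg.Agent.S1556.result x'.1 (g.1 • y.1) y'.1 x'.2 hy y'.2 (by
      rw [← hg', ← Finset.smul_finset_inter, Finset.card_smul_finset, hg', hc])
    refine ⟨⟨k, hk⟩ * g, ?_⟩
    refine Prod.ext (Subtype.ext ?_) (Subtype.ext ?_)
    · show (k * g.1) • x.1 = x'.1
      rw [mul_smul, hg', hk1]
    · show (k * g.1) • y.1 = y'.1
      rw [mul_smul, hk2]

theorem imc_two_m24 : IMC 2 M24 := by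
  let _ := actSub octads hOct
  have hc : Nat.card octads = 759 := by
    rw [Nat.card_coe_set_eq]
    exact Cfsg.Agent.S0360.result
  have hfin : Finite octads := Nat.finite_of_card_ne_zero (by rw [hc]; norm_num)
  refine imc_two_of_rank octads ⟨fun x y => ?_⟩ (by rw [hc]; norm_num) rank_octads (by norm_num)
  obtain ⟨g, hg⟩ := Cfsg.Agent.S0367.result x.1 y.1 x.2 y.2
  exact ⟨g, Subtype.ext hg⟩

/-! ### M22 on the pairs of points -/

/-- the 231 pairs -/
def XD2 : Set (Finset GolayPt) := {t | t.card = 2 ∧ none ∉ t ∧ some 0 ∉ t}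

theorem hXD2 (g : Spor.M22) (o : Finset GolayPt) (ho : o ∈ XD2) : g • o ∈ XD2 :=
  ⟨(Finset.card_smul_finset _ _).trans ho.1, fun h => ho.2.1 ((mem_smul_fix g.2.1.2 o).1 h),
    fun h => ho.2.2 ((mem_smul_fix g.2.2 o).1 h)⟩

/-- contained in an octad with the two fixed points -/
def InO (s t : Finset GolayPt) : Prop := ∃ o ∈ octads, none ∈ o ∧ some 0 ∈ o ∧ s ∪ t ⊆ o

open Classical in
/-- the invariant -/
noncomputable def invD (s t : Finset GolayPt) : Fin 4 :=
  if (s ∩ t).card = 2 then 0 else if (s ∩ t).card = 1 then 1 else if InO s t then 2 else 3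

theorem inO_smul {g : Equiv.Perm GolayPt} (hg : g ∈ Spor.M22) {s t : Finset GolayPt} (h : InO s t) :
    InO (g • s) (g • t) := by
  obtain ⟨o, ho, h1, h2, h3⟩ := h
  refine ⟨g • o, smul_oct hg.1.1 ho, (mem_smul_fix hg.1.2 o).2 h1, (mem_smul_fix hg.2 o).2 h2, ?_⟩
  rw [← Finset.smul_finset_union]
  exact Finset.smul_finset_subset_smul_finset h3

theorem inO_smul_iff {g : Equiv.Perm GolayPt} (hg : g ∈ Spor.M22) {s t : Finset GolayPt} :
    InO (g • s) (g • t) ↔ InO s t := by
  refine ⟨fun h => ?_, inO_smul hg⟩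
  have h1 := inO_smul (Spor.M22.inv_mem hg) h
  rwa [inv_smul_smul, inv_smul_smul] at h1

theorem pair_trans {s t : Finset GolayPt} (hs : s ∈ XD2) (ht : t ∈ XD2) : ∃ g ∈ Spor.M22, g • s = t := by
  obtain ⟨a, b, hab, rfl⟩ := Finset.card_eq_two.1 hs.1
  obtain ⟨c, d, hcd, rfl⟩ := Finset.card_eq_two.1 ht.1
  obtain ⟨-, h1, h2⟩ := hs
  obtain ⟨-, h3, h4⟩ := ht
  simp only [Finset.mem_insert, Finset.mem_singleton, not_or] at h1 h2 h3 h4
  obtain ⟨g, hg⟩ := Cfsg.Agent.SporadicStructure.M23Index253.exists_map Cfsg.Agent.S0366.result (n := 4) (by norm_num)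
    ![none, some 0, a, b] ![none, some 0, c, d] (by
      intro i j h
      fin_cases i <;> fin_cases j <;> simp_all only [eq_comm, _root_.ne_eq, _root_.Fin.zero_eta, _root_.Fin.isValue, _root_.Matrix.cons_val_zero, _root_.Fin.mk_one, _root_.Matrix.cons_val_one, _root_.reduceCtorEq, _root_.Fin.reduceFinMk, _root_.Matrix.cons_val]) (by
      intro i j h
      fin_cases i <;> fin_cases j <;> simp_all only [eq_comm, _root_.ne_eq, _root_.Fin.zero_eta, _root_.Fin.isValue, _root_.Matrix.cons_val_zero, _root_.Fin.mk_one, _root_.Matrix.cons_val_one, _root_.reduceCtorEq, _root_.Fin.reduceFinMk, _root_.Matrix.cons_val])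
  have e0 : g • (none : GolayPt) = none := hg 0
  have e1 : g • (some 0 : GolayPt) = some 0 := hg 1
  have e2 : g • a = c := hg 2
  have e3 : g • b = d := hg 3
  refine ⟨(g : Equiv.Perm GolayPt), ⟨⟨g.2, e0⟩, e1⟩, ?_⟩
  rw [Finset.smul_finset_insert, Finset.smul_finset_singleton]
  change {g • a, g • b} = _
  rw [e2, e3]

theorem inO_of_card_one {s t : Finset GolayPt} (hs : s ∈ XD2) (ht : t ∈ XD2) (h : (s ∩ t).card = 1) : InO s t := by
  have h1 : (s ∪ t).card = 3 := by
    have := Finset.card_union_add_card_inter s t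
    rw [hs.1, ht.1] at this
    omega
  have h2 : (none : GolayPt) ∉ insert (some 0 : GolayPt) (s ∪ t) := by
    simp only [Finset.mem_insert, Finset.mem_union, not_or]
    exact ⟨by simp, hs.2.1, ht.2.1⟩
  have h3 : (some 0 : GolayPt) ∉ s ∪ t := by
    simp only [Finset.mem_union, not_or]
    exact ⟨hs.2.2, ht.2.2⟩
  obtain ⟨b, ⟨hb, hsb⟩, -⟩ := Cfsg.Agent.S0363.result.2 (insert none (insert (some 0) (s ∪ t))) (by
    rw [Finset.card_insert_of_notMem h2, Finset.card_insert_of_notMem h3, h1])
  exact ⟨b, hb, hsb (Finset.mem_insert_self _ _), hsb (Finset.mem_insert_of_mem (Finset.mem_insert_self _ _)),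
    fun x hx => hsb (Finset.mem_insert_of_mem (Finset.mem_insert_of_mem hx))⟩

theorem inter_le {s t : Finset GolayPt} (hs : s ∈ XD2) : (s ∩ t).card = 2 ∨ (s ∩ t).card = 1 ∨ (s ∩ t).card = 0 := by
  have := Finset.card_le_card (Finset.inter_subset_left (s₁ := s) (s₂ := t))
  rw [hs.1] at this
  omega

theorem eq_of_two {s t : Finset GolayPt} (hs : s ∈ XD2) (ht : t ∈ XD2) (h : (s ∩ t).card = 2) : s = t := by
  have h1 : s ∩ t = s := Finset.eq_of_subset_of_card_le Finset.inter_subset_left (by rw [hs.1, h])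
  have h2 : s ∩ t = t := Finset.eq_of_subset_of_card_le Finset.inter_subset_right (by rw [ht.1, h])
  rw [← h1, h2]

theorem rank_pairs : letI := actSub XD2 hXD2;
    Nat.card (MulAction.orbitRel.Quotient Spor.M22 (XD2 × XD2)) = 4 := by
  classical
  let _ := actSub XD2 hXD2
  have hsm : ∀ (g : Spor.M22) (x : XD2), ((g • x : XD2) : Finset GolayPt) = g.1 • x.1 := fun g x => rfl
  refine card_orbits Spor.M22 (fun z => invD z.1.1 z.2.1) ?_ ?_ ?_
  · rintro g ⟨x, y⟩
    show invD (g • x : XD2).1 (g • y : XD2).1 = invD x.1 y.1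
    unfold invD
    rw [hsm, hsm, inO_smul_iff g.2, ← Finset.smul_finset_inter, Finset.card_smul_finset]
  · have hs : ({some 1, some 2} : Finset GolayPt) ∈ XD2 := by
      refine ⟨by decide, by decide, by decide⟩
    have ht : ({some 1, some 3} : Finset GolayPt) ∈ XD2 := by
      refine ⟨by decide, by decide, by decide⟩
    obtain ⟨h1, h2, -⟩ := Cfsg.Agent.S1638.result none (some 0) (by simp) {some 1, some 2} hs
    intro i
    fin_cases i
    · refine ⟨(⟨_, hs⟩, ⟨_, hs⟩), ?_⟩
      show invD {some 1, some 2} {some 1, some 2} = _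
      unfold invD
      rw [if_pos (by decide)]
      rfl
    · refine ⟨(⟨_, hs⟩, ⟨_, ht⟩), ?_⟩
      show invD {some 1, some 2} {some 1, some 3} = _
      unfold invD
      rw [if_neg (by decide), if_pos (by decide)]
      rfl
    · obtain ⟨t, ht, htd, hto⟩ := Set.nonempty_of_ncard_ne_zero (h1 ▸ (by norm_num : (30 : ℕ) ≠ 0))
      refine ⟨(⟨_, hs⟩, ⟨t, ht⟩), ?_⟩
      show invD {some 1, some 2} t = _
      have hc : (({some 1, some 2} : Finset GolayPt) ∩ t).card = 0 := by
        rw [Finset.disjoint_iff_inter_eq_empty.1 htd, Finset.card_empty]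
      unfold invD
      rw [if_neg (by rw [hc]; norm_num), if_neg (by rw [hc]; norm_num), if_pos (show InO _ _ from hto)]
      rfl
    · obtain ⟨t, ht, htd, hto⟩ := Set.nonempty_of_ncard_ne_zero (h2 ▸ (by norm_num : (160 : ℕ) ≠ 0))
      refine ⟨(⟨_, hs⟩, ⟨t, ht⟩), ?_⟩
      show invD {some 1, some 2} t = _
      have hc : (({some 1, some 2} : Finset GolayPt) ∩ t).card = 0 := by
        rw [Finset.disjoint_iff_inter_eq_empty.1 htd, Finset.card_empty]
      unfold invD
      rw [if_neg (by rw [hc]; norm_num), if_neg (by rw [hc]; norm_num), if_neg (show ¬ InO _ _ from hto)]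
      rfl
  · rintro ⟨x, y⟩ ⟨x', y'⟩ h
    have h' : invD x.1 y.1 = invD x'.1 y'.1 := h
    obtain ⟨g, hg, hgx⟩ := pair_trans x.2 x'.2
    have hy : g • y.1 ∈ XD2 := hXD2 ⟨g, hg⟩ y.1 y.2
    -- compare `(x', g y)` and `(x', y')`
    have h'' : invD x'.1 (g • y.1) = invD x'.1 y'.1 := by
      rw [← h', ← hgx]
      unfold invD
      rw [inO_smul_iff hg, ← Finset.smul_finset_inter, Finset.card_smul_finset]
    have key : ∃ k ∈ Spor.M22, k • x'.1 = x'.1 ∧ k • (g • y.1) = y'.1 := by
      by_cases hc : (x'.1 ∩ g • y.1).card = 2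
      · have e1 := eq_of_two x'.2 hy hc
        have e2 : (x'.1 ∩ y'.1).card = 2 := by
          by_contra hcon
          unfold invD at h''
          rw [if_pos hc, if_neg hcon] at h''
          split_ifs at h'' <;> exact absurd h'' (by decide)
        have e3 := eq_of_two x'.2 y'.2 e2
        exact ⟨1, Spor.M22.one_mem, one_smul _ _, by rw [one_smul, ← e1, e3]⟩
      · have e2 : (x'.1 ∩ y'.1).card ≠ 2 := by
          intro hcon
          unfold invD at h''
          rw [if_neg hc, if_pos hcon] at h''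
          split_ifs at h'' <;> exact absurd h'' (by decide)
        have n1 : g • y.1 ≠ x'.1 := by
          intro hcon
          apply hc
          rw [hcon, Finset.inter_self, x'.2.1]
        have n2 : y'.1 ≠ x'.1 := by
          intro hcon
          apply e2
          rw [hcon, Finset.inter_self, x'.2.1]
        have hcard : (x'.1 ∩ g • y.1).card = (x'.1 ∩ y'.1).card ∧ (InO x'.1 (g • y.1) ↔ InO x'.1 y'.1) := by
          by_cases h1 : (x'.1 ∩ g • y.1).card = 1
          · have e3 : (x'.1 ∩ y'.1).card = 1 := by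
              by_contra hcon
              unfold invD at h''
              rw [if_neg hc, if_pos h1, if_neg e2, if_neg hcon] at h''
              split_ifs at h'' <;> exact absurd h'' (by decide)
            exact ⟨by rw [h1, e3], ⟨fun _ => inO_of_card_one x'.2 y'.2 e3, fun _ => inO_of_card_one x'.2 hy h1⟩⟩
          · have e3 : (x'.1 ∩ y'.1).card ≠ 1 := by
              intro hcon
              unfold invD at h''
              rw [if_neg hc, if_neg h1, if_neg e2, if_pos hcon] at h''
              split_ifs at h'' <;> exact absurd h'' (by decide)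
            have c1 := inter_le (t := g • y.1) x'.2
            have c2 := inter_le (t := y'.1) x'.2
            refine ⟨by omega, ?_⟩
            unfold invD at h''
            rw [if_neg hc, if_neg h1, if_neg e2, if_neg e3] at h''
            constructor
            · intro hi
              by_contra hn
              rw [if_pos hi, if_neg hn] at h''
              exact absurd h'' (by decide)
            · intro hi
              by_contra hn
              rw [if_neg hn, if_pos hi] at h''
              exact absurd h'' (by decide)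
        obtain ⟨-, -, h3⟩ := Cfsg.Agent.S1638.result none (some 0) (by simp) x'.1 x'.2
        obtain ⟨k, hk, k1, k2, k3, k4⟩ := h3 (g • y.1) y'.1 hy y'.2 n1 n2 hcard.1 hcard.2
        exact ⟨k, ⟨⟨hk, k1⟩, k2⟩, k3, k4⟩
    obtain ⟨k, hk, hk1, hk2⟩ := key
    refine ⟨⟨k, hk⟩ * ⟨g, hg⟩, ?_⟩
    refine Prod.ext (Subtype.ext ?_) (Subtype.ext ?_)
    · show (k * g) • x.1 = x'.1
      rw [mul_smul, hgx, hk1]
    · show (k * g) • y.1 = y'.1
      rw [mul_smul, hk2]

theorem card_XD2 : XD2.ncard = 231 := by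
  have e : XD2 = ((Finset.powersetCard 2 ((Finset.univ : Finset GolayPt) \ {none, some 0}) : Finset (Finset GolayPt)) :
      Set (Finset GolayPt)) := by
    ext t
    simp only [XD2, Set.mem_ofPred_eq, Finset.mem_coe, Finset.mem_powersetCard, Finset.subset_iff, Finset.mem_sdiff,
      Finset.mem_univ, true_and, Finset.mem_insert, Finset.mem_singleton, not_or]
    constructor
    · rintro ⟨h1, h2, h3⟩
      exact ⟨fun x hx => ⟨fun h => h2 (h ▸ hx), fun h => h3 (h ▸ hx)⟩, h1⟩
    · rintro ⟨h1, h2⟩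
      exact ⟨h2, fun h => (h1 h).1 rfl, fun h => (h1 h).2 rfl⟩
  rw [e, Set.ncard_coe_finset, Finset.card_powersetCard]
  decide +kernel

theorem imc_two_m22 : IMC 2 Spor.M22 := by
  let _ := actSub XD2 hXD2
  have hc : Nat.card XD2 = 231 := by
    rw [Nat.card_coe_set_eq, card_XD2]
  have hfin : Finite XD2 := Nat.finite_of_card_ne_zero (by rw [hc]; norm_num)
  refine imc_two_of_rank XD2 ⟨fun x y => ?_⟩ (by rw [hc]; norm_num) rank_pairs (by norm_num)
  obtain ⟨g, hg, h⟩ := pair_trans x.2 y.2
  exact ⟨⟨g, hg⟩, Subtype.ext h⟩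

/-! ### rows -/

/-- **M11.** -/
theorem imc_m11 {S : Type u} [Group S] [Finite S] (h : Spor.IsoM11 S) {p : ℕ} [hp : Fact p.Prime]
    (hd : p ∣ Nat.card S) : IMC p S := by
  obtain ⟨e⟩ := id h
  have hc : Nat.card S = 7920 := by rw [Nat.card_congr e.toEquiv, card_M11]
  rw [hc] at hd
  have hm := prime_cases hp.out [2, 2, 2, 2, 3, 3, 5, 11] (by decide) hd (by decide)
  by_cases h2 : p = 2
  · subst h2
    exact imc_of_loc (Cfsg.Agent.H654.FourRows.loc_M11 h)
  · refine imc_of_IM ?_ (im_m11 h (hc ▸ hd))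
    rw [hc]
    simp only [List.mem_cons, List.not_mem_nil, or_false] at hm
    rcases hm with rfl | rfl | rfl | rfl | rfl | rfl | rfl | rfl <;> first | (exact absurd rfl h2) | norm_num

/-- **M12.** -/
theorem imc_m12 {S : Type u} [Group S] [Finite S] (h : Spor.IsoM12 S) {p : ℕ} [hp : Fact p.Prime]
    (hd : p ∣ Nat.card S) : IMC p S := by
  obtain ⟨e⟩ := id h
  have hc : Nat.card S = 95040 := by rw [Nat.card_congr e.toEquiv, card_M12]
  rw [hc] at hd
  have hm := prime_cases hp.out [2, 2, 2, 2, 2, 2, 3, 3, 3, 5, 11] (by decide) hd (by decide)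
  by_cases h2 : p = 2
  · subst h2
    exact imc_of_loc (Cfsg.Agent.H287.Blk.loc_M12 h)
  by_cases h3 : p = 3
  · subst h3
    have hc' : Nat.card Spor.M12 = 95040 := card_M12
    have : Finite Spor.M12 := Nat.finite_of_card_ne_zero (by rw [hc']; norm_num)
    refine IMC.of_equiv e ?_
    have hs : IsSimpleGroup Spor.M12 := CpAutTThree.MTwelve.simple
    have := Fintype.ofFinite Spor.M12
    have := finite_irr (G := Spor.M12)
    have := Fintype.ofFinite (IrrCharacter Spor.M12)
    obtain ⟨C, t, hdeg, ho, ht2, ht1, hst⟩ := H417.DegMTwelve.exists_ctx hc'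
      (fun P => Cfsg.Agent.MTwelve.SylowEleven.centralizer_sylow11 hc' P)
      (fun P => Cfsg.Agent.MTwelve.SylowEleven.card_normalizer_sylow11 hc' P)
    have hcd : charDegree (C.c54 : Spor.M12 → ℂ) = 54 := by
      rw [Cfsg.Agent.MTwelve.ElevenMain.charDegree_eq_deg C.c54, ← hdeg, C.d54]
    refine imc_of_pow C.c54 (by rw [hcd]; norm_num) ?_
    rw [hcd, hc', show (95040 : ℕ) = 3 ^ 3 * 3520 by norm_num,
      Nat.factorization_mul (by norm_num) (by norm_num), Nat.factorization_pow, Finsupp.add_apply,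
      Nat.factorization_eq_zero_of_not_dvd (n := 3520) (p := 3) (by norm_num)]
    simp only [Nat.Prime.factorization_self Nat.prime_three, _root_.Finsupp.coe_smul, _root_.Pi.smul_apply, _root_.smul_eq_mul, _root_.mul_one, _root_.add_zero, _root_.Nat.add_one_sub_one, _root_.Nat.reducePow, _root_.Nat.reduceDvd]
  · refine imc_of_IM ?_ (im_m12 h (hc ▸ hd))
    rw [hc]
    simp only [List.mem_cons, List.not_mem_nil, or_false] at hm
    rcases hm with rfl | rfl | rfl | rfl | rfl | rfl | rfl | rfl | rfl | rfl | rfl <;>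
      first | (exact absurd rfl h2) | (exact absurd rfl h3) | norm_num

/-- **M22.** -/
theorem imc_m22 {S : Type u} [Group S] [Finite S] (h : Spor.IsoM22 S) {p : ℕ} [hp : Fact p.Prime]
    (hd : p ∣ Nat.card S) : IMC p S := by
  obtain ⟨e⟩ := id h
  have hc : Nat.card S = 443520 := by rw [Nat.card_congr e.toEquiv, card_M22]
  rw [hc] at hd
  have hm := prime_cases hp.out [2, 2, 2, 2, 2, 2, 2, 3, 3, 5, 7, 11] (by decide) hd (by decide)
  by_cases h2 : p = 2
  · subst h2
    exact IMC.of_equiv e imc_two_m22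
  · refine imc_of_IM ?_ (im_m22 h (hc ▸ hd))
    rw [hc]
    simp only [List.mem_cons, List.not_mem_nil, or_false] at hm
    rcases hm with rfl | rfl | rfl | rfl | rfl | rfl | rfl | rfl | rfl | rfl | rfl | rfl <;>
      first | (exact absurd rfl h2) | norm_num

/-- **M23.** -/
theorem imc_m23 {S : Type u} [Group S] [Finite S] (h : Spor.IsoM23 S) {p : ℕ} [hp : Fact p.Prime]
    (hd : p ∣ Nat.card S) : IMC p S := by
  obtain ⟨e⟩ := id h
  have hc : Nat.card S = 10200960 := by rw [Nat.card_congr e.toEquiv, card_M23]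
  rw [hc] at hd
  have hm := prime_cases hp.out [2, 2, 2, 2, 2, 2, 2, 3, 3, 5, 7, 11, 23] (by decide) hd (by decide)
  by_cases h2 : p = 2
  · subst h2
    obtain ⟨hs, H, z, v, a, b, c, d, g, h', b₁, c₁, K⟩ :=
      H417.DegMTwentyThree.exists_elev' (H417.RecogMathieu.isM23 h)
    have hb : charDegree (b₁ : S → ℂ) = 896 := K.dgb₁
    refine imc_of_pow b₁ (by rw [hb]; norm_num) ?_
    rw [hb, hc, show (10200960 : ℕ) = 2 ^ 7 * 79695 by norm_num,
      Nat.factorization_mul (by norm_num) (by norm_num), Nat.factorization_pow, Finsupp.add_apply,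
      Nat.factorization_eq_zero_of_not_dvd (n := 79695) (p := 2) (by norm_num)]
    simp only [Nat.Prime.factorization_self Nat.prime_two, _root_.Finsupp.coe_smul, _root_.Pi.smul_apply, _root_.smul_eq_mul, _root_.mul_one, _root_.add_zero, _root_.Nat.add_one_sub_one, _root_.Nat.reducePow, _root_.Nat.reduceDvd]
  · refine imc_of_IM ?_ (im_m23 h (hc ▸ hd))
    rw [hc]
    simp only [List.mem_cons, List.not_mem_nil, or_false] at hm
    rcases hm with rfl | rfl | rfl | rfl | rfl | rfl | rfl | rfl | rfl | rfl | rfl | rfl | rfl <;>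
      first | (exact absurd rfl h2) | norm_num

/-- 9 divides a degree of `M24`. -/
theorem im9_m24 : H33.IM 9 M24 := by
  refine H852.IMMathieu.im_perm_four M24 Set.univ ?_ 5 ?_ (by norm_num) (n := 24) ?_ (by norm_num) ?_
  · intro g _ x _
    trivial
  · intro x y _ _
    obtain ⟨g, hg⟩ := Cfsg.Agent.SporadicStructure.M23Index253.exists_map Cfsg.Agent.S0366.result le_rfl _ _
      x.injective y.injective
    exact ⟨(g : Equiv.Perm GolayPt), g.2, hg⟩
  · rw [Nat.card_coe_set_eq, Set.ncard_univ, Nat.card_eq_fintype_card]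
    decide
  · decide

/-- **M24.** -/
theorem imc_m24 {S : Type u} [Group S] [Finite S] (h : Spor.IsoM24 S) {p : ℕ} [hp : Fact p.Prime]
    (hd : p ∣ Nat.card S) : IMC p S := by
  obtain ⟨e⟩ := id h
  have hc' : Nat.card M24 = 244823040 := Cfsg.Agent.S0364.result
  have hc : Nat.card S = 244823040 := by rw [Nat.card_congr e.toEquiv, hc']
  rw [hc] at hd
  have hm := prime_cases hp.out [2, 2, 2, 2, 2, 2, 2, 2, 2, 2, 3, 3, 3, 5, 7, 11, 23] (by decide) hd (by decide)
  by_cases h2 : p = 2
  · subst h2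
    exact IMC.of_equiv e imc_two_m24
  by_cases h3 : p = 3
  · subst h3
    refine IMC.of_equiv e ?_
    obtain ⟨χ, hχ⟩ := im9_m24
    refine imc_of_pow χ ((by norm_num : (3 : ℕ) ∣ 9).trans hχ) ?_
    refine Dvd.dvd.trans ?_ hχ
    rw [hc', show (244823040 : ℕ) = 3 ^ 3 * 9067520 by norm_num,
      Nat.factorization_mul (by norm_num) (by norm_num), Nat.factorization_pow, Finsupp.add_apply,
      Nat.factorization_eq_zero_of_not_dvd (n := 9067520) (p := 3) (by norm_num)]
    simp [Nat.Prime.factorization_self Nat.prime_three]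
  · refine imc_of_IM ?_ (im_m24 h (hc ▸ hd))
    rw [hc]
    simp only [List.mem_cons, List.not_mem_nil, or_false] at hm
    rcases hm with rfl | rfl | rfl | rfl | rfl | rfl | rfl | rfl | rfl | rfl | rfl | rfl | rfl | rfl | rfl | rfl | rfl <;>
      first | (exact absurd rfl h2) | (exact absurd rfl h3) | norm_num

end Cfsg.Agent.H174.SC
end

private theorem dce_5ff49b8346a5 : _root_.True := by
  try have : _root_.True := by simp only [_root_.Cfsg.Agent.H174.SC.XD2.eq_1]
  exact _root_.True.intro
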